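import Groth.Agent.IntShAcycLib.Gen
import Groth.Agent.LimAmpleLib.RelAmple
import Groth.Agent.RpushLib.Comp
import Groth.Agent.RelProjLib.ProjProper
import Groth.Agent.SerreVanLib.Rpush
import Groth.Agent.ProjFormLib.Proj
import Groth.Agent.CohCmpLib.UnitFibre
import Groth.Agent.S12131
import Groth.Agent.S4474
import Groth.Agent.RichLib.IsFPAffine
import Groth.Agent.CurvLib.Divisor

/-!
# Twists of direct images along affine base changes
-/

set_option autoImplicit false
set_option linter.style.haveILetI false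
set_option backward.isDefEq.respectTransparency false
set_option backward.isDefEq.respectTransparency.types false
set_option maxHeartbeats 1000000
universe u

open CategoryTheory CategoryTheory.Limits AlgebraicGeometry TopologicalSpace Opposite
open CubeConsLib

noncomputable section

namespace TwistAffLib

variable {X Y X' Y' : Scheme.{u}}

/-- Direct images along affine morphisms keep epimorphisms of quasi-coherent modules. -/
theorem epi_push_affine (g : X ⟶ Y) [IsAffineHom g] {M N : X.Modules} [Coh.IsQCoh M] [Coh.IsQCoh N]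
    (a : M ⟶ N) [Epi a] : Epi ((Scheme.Modules.pushforward g).map a) := by
  refine Abelian.epi_of_cokernel_π_eq_zero _ ((DevissLib.isZero_of_support_empty
    (Set.eq_empty_of_forall_notMem fun x hx => DevissLib.notMem_support_cokernel _ x (fun b => ?_) hx)).eq_of_tgt _ _)
  obtain ⟨U, hxU, t, rfl⟩ := DevissLib.exists_gm_eq _ x b
  obtain ⟨V, hV, hxV, hVU⟩ := Opens.isBasis_iff_nbhd.mp Y.isBasis_affineOpens hxU
  obtain ⟨s, hs⟩ := RichLib.IsFPAffine.appLin_surjective a (hV.preimage g)
    (((Scheme.Modules.pushforward g).obj N).presheaf.map (homOfLE hVU).op t)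
  refine ⟨DevissLib.gm ((Scheme.Modules.pushforward g).obj M) x hxV s, ?_⟩
  rw [DevissLib.gm_app]
  exact (congrArg _ hs).trans (DevissLib.gm_map _ hVU x hxV t)

/-- Vanishing of higher direct images composes with an affine morphism. -/
theorem isZero_rpushAb_comp_affine (f : X' ⟶ Y') (g : Y' ⟶ Y) [IsAffineHom g] [IsSeparated f] [QuasiCompact f]
    [IsSeparated g] [QuasiCompact g] (M : X'.Modules) [Coh.IsQCoh M] (p : ℕ)
    (h : IsZero ((Coh.Rpush f p).obj M)) : IsZero ((Coh.Rpush (f ≫ g) p).obj M) := by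
  haveI := RpushLib.isQCoh_Rpush (f ≫ g) M p
  refine DevissLib.isZero_of_support_empty (Set.eq_empty_iff_forall_notMem.2 fun y hy => ?_)
  obtain ⟨W, hW, hyW, -⟩ := exists_isAffineOpen_mem_and_subset (x := y) (U := ⊤) trivial
  have h0 : Subsingleton Γ((Coh.Rpush f p).obj M, g ⁻¹ᵁ W) :=
    subsingleton_of_forall_eq 0 fun t =>
      congr(Scheme.Modules.Hom.app $((IsZero.iff_id_eq_zero _).1 h) (g ⁻¹ᵁ W) t)
  have h1 : Subsingleton (Coh.HHon X' M (f ⁻¹ᵁ (g ⁻¹ᵁ W)) p) :=
    (RpushLib.rpushSectionsEquiv f M p (hW.preimage g)).symm.injective.subsingleton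
  haveI : Subsingleton (Coh.HHon X' M ((f ≫ g) ⁻¹ᵁ W) p) := h1
  exact hy (SerreVanLib.subsingleton_stalk_of_sections _ hW
    (RpushLib.rpushSectionsEquiv (f ≫ g) M p hW).injective.subsingleton hyW)

variable {f : X ⟶ Y} {g : Y' ⟶ Y} {g' : X' ⟶ X} {f' : X' ⟶ Y'}

/-- Epimorphic counits pass to direct images along affine base changes. -/
theorem epi_counit (hsq : IsPullback g' f' f g) [IsAffineHom g] [QuasiCompact f'] [QuasiSeparated f']
    (N : X'.Modules) [Coh.IsQCoh N]
    (h : Epi ((Scheme.Modules.pullbackPushforwardAdjunction f').counit.app N)) :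
    Epi ((Scheme.Modules.pullbackPushforwardAdjunction f).counit.app ((Scheme.Modules.pushforward g').obj N)) := by
  haveI : IsAffineHom g' := MorphismProperty.of_isPullback hsq.flip ‹IsAffineHom g›
  let M := (Scheme.Modules.pushforward f').obj N
  haveI : Coh.IsQCoh M := QCohLib.isQCoh_pushforward f' N
  haveI : Coh.IsQCoh ((Scheme.Modules.pullback f').obj M) := KFlatLib.isQCoh_pullback f' M
  let b := CohBC.bc0 g f g' f' hsq.w.symm M
  haveI : IsIso b := Groth.Agent.S12131.result g f f' g' hsq.flip M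
  haveI := h
  haveI : Coh.IsQCoh ((Scheme.Modules.pushforward f' ⋙ Scheme.Modules.pullback f').obj N) := KFlatLib.isQCoh_pullback f' M
  haveI : Epi ((Scheme.Modules.pushforward g').map ((Scheme.Modules.pullbackPushforwardAdjunction f').counit.app N)) :=
    @epi_push_affine _ _ g' _ _ _ (KFlatLib.isQCoh_pullback f' M) ‹Coh.IsQCoh N› _ h
  let P : (Scheme.Modules.pushforward g).obj M ⟶ (Scheme.Modules.pushforward f).obj ((Scheme.Modules.pushforward g').obj N) :=
    (Scheme.Modules.pushforwardComp f' g).hom.app N ≫ (Scheme.Modules.pushforwardCongr hsq.w.symm).hom.app N ≫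
      (Scheme.Modules.pushforwardComp g' f).inv.app N
  have key : (Scheme.Modules.pullback f).map P ≫
      (Scheme.Modules.pullbackPushforwardAdjunction f).counit.app ((Scheme.Modules.pushforward g').obj N) =
      b ≫ (Scheme.Modules.pushforward g').map ((Scheme.Modules.pullbackPushforwardAdjunction f').counit.app N) := by
    refine CohCmpLib.hom_ext_puSec _ _ fun U s => ?_
    refine (congrArg (((Scheme.Modules.pullbackPushforwardAdjunction f).counit.app _).app _)
      (KFlatLib.puSec_natural f P s)).trans ((CohCmpLib.counit_puSec f _ _).trans ?_)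
    refine Eq.trans ?_ (congrArg (((Scheme.Modules.pullbackPushforwardAdjunction f').counit.app N).app (g' ⁻¹ᵁ (f ⁻¹ᵁ U)))
      (CohCmpLib.bc0_puSec hsq.w.symm M s)).symm
    rw [KFlatLib.puSecLE_apply]
    refine Eq.trans ?_ (congr($(((Scheme.Modules.pullbackPushforwardAdjunction f').counit.app N).mapPresheaf.naturality
      (homOfLE (CohCmp.sqLE g f g' f' hsq.w.symm U)).op) (KFlatLib.puSec f' s))).symm
    refine Eq.trans ?_ (congrArg (N.presheaf.map (homOfLE (CohCmp.sqLE g f g' f' hsq.w.symm U)).op)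
      (CohCmpLib.counit_puSec f' N (U := g ⁻¹ᵁ U) s)).symm
    rfl
  haveI : Epi ((Scheme.Modules.pullback f).map P ≫
      (Scheme.Modules.pullbackPushforwardAdjunction f).counit.app ((Scheme.Modules.pushforward g').obj N)) := by
    rw [key]; exact epi_comp _ _
  exact epi_of_epi ((Scheme.Modules.pullback f).map P) _

/-- Serre vanishing and generation for direct images of coherent modules along affine base changes. -/
theorem exists_bound [IsNoetherian Y] (hf : RelProj.IsProjective f) {L : X.Modules} (hL : PicF.IsInvertible L)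
    (hamp : RelAmple.IsRelAmple f L) [IsAffineHom g] [LocallyOfFiniteType g] (hsq : IsPullback g' f' f g)
    {G : X'.Modules} (hG : Coh.IsCoh G) :
    ∃ N : ℕ, ∀ n : ℕ, N ≤ n →
      (∀ p : ℕ, 0 < p →
        IsZero ((Coh.RpushAb f p).obj (Coh.toAb (CohB1.tensorMod ((Coh.push g').obj G) (CohB1.tensorPow L n))))) ∧
      Epi ((Scheme.Modules.pullbackPushforwardAdjunction f).counit.app
        (CohB1.tensorMod ((Coh.push g').obj G) (CohB1.tensorPow L n))) := by
  haveI : IsProper f := RelProjLib.isProper_of_isProjective hf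
  haveI : IsProper f' := MorphismProperty.of_isPullback hsq ‹IsProper f›
  haveI : IsAffineHom g' := MorphismProperty.of_isPullback hsq.flip ‹IsAffineHom g›
  haveI : IsLocallyNoetherian Y' := LocallyOfFiniteType.isLocallyNoetherian g
  haveI : CompactSpace Y' := QuasiCompact.compactSpace_of_compactSpace g
  haveI : IsNoetherian Y' := ⟨⟩
  haveI : IsLocallyNoetherian X := LocallyOfFiniteType.isLocallyNoetherian f
  haveI : IsLocallyNoetherian X' := LocallyOfFiniteType.isLocallyNoetherian f'
  let L' := (Scheme.Modules.pullback g').obj L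
  have hL' : PicF.IsInvertible L' := AmpleDevLib.isInvertible_pb g' hL
  have hamp' : RelAmple.IsRelAmple f' L' := LimAmpleLib.relAmple_baseChange' hsq hamp
  obtain ⟨n₀, h₀⟩ := SerreVanLib.exists_vanishing_rpush f' L' hL' (fun W hW => hamp'.2 ⟨W, hW⟩) G hG
  obtain ⟨n₁, h₁⟩ := Groth.Agent.S4474.result f' L' hL' hamp' G hG
  refine ⟨max n₀ n₁, fun n hn => ?_⟩
  let N := CohB1.tensorMod G (CohB1.tensorPow L' n)
  have hN : Coh.IsCoh N := SerreVanLib.isCoh_tensor hG (AmpleThLib.tensorPow_isInvertible hL' n)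
  haveI := hN.1
  have hLn : FlatMod.IsFinLocFree (CohB1.tensorPow L n) :=
    IntShAcyc.vb_inv (AmpleThLib.tensorPow_isInvertible hL n)
  obtain ⟨e₁⟩ := cl_eq_iff.1 (show cl (CohB1.tensorMod ((Scheme.Modules.pullback g').obj (CohB1.tensorPow L n)) G) = cl N by
    rw [cl_tensor, cl_tensor, IntShAcyc.cl_tensorPow, ← pull_cl, IntShAcyc.cl_tensorPow, map_pow, pull_cl, mul_comm])
  obtain ⟨e₂⟩ := cl_eq_iff.1 (show cl (CohB1.tensorMod ((Coh.push g').obj G) (CohB1.tensorPow L n)) =
      cl (CohB1.tensorMod (CohB1.tensorPow L n) ((Coh.push g').obj G)) by rw [cl_tensor, cl_tensor, mul_comm])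
  let e : (Scheme.Modules.pushforward g').obj N ≅ CohB1.tensorMod ((Coh.push g').obj G) (CohB1.tensorPow L n) :=
    (Scheme.Modules.pushforward g').mapIso e₁.symm ≪≫
      ((ProjFormLib.projIso' g' (CohB1.tensorPow L n) hLn).app G).symm ≪≫ e₂.symm
  constructor
  · intro p hp
    obtain ⟨a'⟩ := RpushLib.nonempty_toAb_rpush_iso f' N p
    obtain ⟨a⟩ := RpushLib.nonempty_toAb_rpush_iso f ((Scheme.Modules.pushforward g').obj N) p
    have h2 : IsZero ((Coh.Rpush f' p).obj N) := by
      have h3 := (h₀ n ((le_max_left _ _).trans hn) p hp).of_iso a'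
      rw [IsZero.iff_id_eq_zero] at h3 ⊢
      exact (QCohLib.toAbF Y').map_injective (((QCohLib.toAbF Y').map_id _).trans (h3.trans ((QCohLib.toAbF Y').map_zero _ _).symm))
    have h4 : IsZero ((Coh.Rpush (g' ≫ f) p).obj N) := by
      rw [hsq.w]
      exact isZero_rpushAb_comp_affine f' g N p h2
    obtain ⟨c⟩ := RpushLib.nonempty_rpush_push_iso g' f N p
    exact (((QCohLib.toAbF Y).map_isZero (h4.of_iso c)).of_iso a.symm).of_iso
      ((Coh.RpushAb f p).mapIso ((QCohLib.toAbF X).mapIso e.symm))
  · haveI := h₁ n ((le_max_right _ _).trans hn)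
    haveI := epi_counit hsq N ‹_›
    let ε := (Scheme.Modules.pullbackPushforwardAdjunction f).counit
    have hnat := ε.naturality e.hom
    haveI : Epi ((Scheme.Modules.pushforward f ⋙ Scheme.Modules.pullback f).map e.hom ≫ ε.app _) := by
      rw [hnat]; exact epi_comp _ _
    exact epi_of_epi ((Scheme.Modules.pushforward f ⋙ Scheme.Modules.pullback f).map e.hom) _

end TwistAffLib

end
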